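import Groth.Agent.L27.CompTransfer.Torsion
import Groth.Agent.L27.Colim.Torsion
import Groth.Agent.L27.LimCoh.HMaps
import Groth.Agent.L00.RDerLES
import Groth.Prelude.Def_EtAcyc

/-! # Sheaves killed by an integer -/

universe u

open CategoryTheory CategoryTheory.Limits AlgebraicGeometry Opposite CategoryTheory.Abelian

set_option autoImplicit false
set_option backward.isDefEq.respectTransparency.types false
set_option linter.style.haveILetI false
set_option linter.unusedSectionVars false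

noncomputable section

namespace Groth.L27.DerBC

open Groth.L27.Colim

variable {X : Scheme.{u}}

/-- A sheaf killed by an integer with primes in `L`. -/
def Killed (L : Set ℕ) (F : EtCoh.Ab X) : Prop := ∃ m, EtAcyc.PrimesIn L m ∧ m • 𝟙 F = 0

theorem nsmul_section {F : EtCoh.Ab X} {m : ℕ} (hm : m • 𝟙 F = 0) (U : X.Etale) (s : F.obj.obj (op U)) : m • s = 0 :=
  (hom_nsmul_app (𝟙 F) m U s).symm.trans (congrArg (fun φ : F ⟶ F => φ.hom.app (op U) s) hm)

theorem Killed.isLTorsion {L : Set ℕ} {F : EtCoh.Ab X} (h : Killed L F) : EtAcyc.IsLTorsion L F := fun U s x => by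
  obtain ⟨m, hm, hm0⟩ := h
  exact ⟨U, 𝟙 U, m, ⟨x, rfl⟩, hm, nsmul_section hm0 U _⟩

theorem Killed.of_epi {L : Set ℕ} {F G : EtCoh.Ab X} (π : F ⟶ G) [Epi π] (h : Killed L F) : Killed L G := by
  obtain ⟨m, hm, hm0⟩ := h
  refine ⟨m, hm, (cancel_epi π).1 ?_⟩
  rw [Preadditive.comp_nsmul, Category.comp_id, comp_zero, ← Category.id_comp π, ← Preadditive.nsmul_comp, hm0, zero_comp]

theorem Killed.map {Y : Scheme.{u}} (T : EtCoh.Ab X ⥤ EtCoh.Ab Y) [T.Additive] {L : Set ℕ} {F : EtCoh.Ab X}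
    (h : Killed L F) : Killed L (T.obj F) := by
  obtain ⟨m, hm, hm0⟩ := h
  refine ⟨m, hm, ?_⟩
  rw [← T.map_id, ← T.map_nsmul, hm0, T.map_zero]

/-- Sheaves killed by an integer embed into acyclic ones. -/
theorem exists_killed_effacement {L : Set ℕ} (F : EtCoh.Ab X) (hF : Killed L F) :
    ∃ (G : EtCoh.Ab X) (v : F ⟶ G), Mono v ∧ Killed L G ∧ (∀ n, Subsingleton (EtCoh.H X G (n + 1))) ∧
      ∀ {Y : Scheme.{u}} (f : X ⟶ Y) (q : ℕ), 0 < q → IsZero ((EtCoh.Rpush f q).obj G) := by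
  obtain ⟨m, hm, hm0⟩ := hF
  let I := Injective.under F
  let μ : I ⟶ I := m • 𝟙 I
  let v : F ⟶ kernel μ := kernel.lift μ (Injective.ι F) (by
    rw [Preadditive.comp_nsmul, Category.comp_id, ← Category.id_comp (Injective.ι F), ← Preadditive.nsmul_comp,
      hm0, zero_comp])
  haveI : Mono v := mono_of_mono_fac (kernel.lift_ι _ _ _)
  let E := ShortComplex.mk (kernel.ι μ) μ (kernel.condition μ)
  haveI : Sheaf.IsLocallySurjective μ := by
    refine ⟨fun {U} s => (EtSite.mem_topology_iff _).2 fun x => ?_⟩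
    obtain ⟨a, ha⟩ := CompTransfer.exists_div_section I U (s : I.obj.obj (op U)) hm.1
    refine ⟨U, 𝟙 U, x, ⟨a, ?_⟩, rfl⟩
    refine ((hom_nsmul_app (𝟙 I) m U a).trans ha).trans ?_
    exact congr($(I.obj.map_id (op U)) s).symm
  haveI : Epi μ := (Sheaf.isLocallySurjective_iff_epi' (φ := μ)).1 inferInstance
  have hE : E.ShortExact := { exact := ShortComplex.exact_of_f_is_kernel _ (kernelIsKernel μ) }
  refine ⟨kernel μ, v, inferInstance, ⟨m, hm, ?_⟩, fun n => ?_, fun {Y} f q hq => ?_⟩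
  · rw [← cancel_mono (kernel.ι μ), Preadditive.nsmul_comp, Category.id_comp, zero_comp,
      ← Category.comp_id (kernel.ι μ), ← Preadditive.comp_nsmul]
    exact kernel.condition μ
  · refine ⟨fun a b => ?_⟩
    suffices h : ∀ a : EtCoh.H X E.X₁ (n + 1), a = 0 from (h a).trans (h b).symm
    intro a
    obtain ⟨x, rfl⟩ := LimCoh.exists_δH hE n a (LimCoh.eq_zero_of_injective I n _)
    obtain ⟨z, rfl⟩ : ∃ z, (EtCoh.HF X n).map E.g z = x := by
      rcases n with _ | n
      · obtain ⟨a, ha⟩ := CompTransfer.exists_div_section I (EtCoh.top X) (LimCoh.secEq I x) hm.1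
        refine ⟨(LimCoh.secEq I).symm a, (LimCoh.secEq I).injective ?_⟩
        rw [LimCoh.secEq_map, AddEquiv.apply_symm_apply]
        exact (hom_nsmul_app (𝟙 I) m _ a).trans ha
      · exact ⟨0, (map_zero _).trans (LimCoh.eq_zero_of_injective I n x).symm⟩
    exact LimCoh.δH_map_g hE n z
  · obtain ⟨k, rfl⟩ : ∃ k, q = k + 1 := ⟨q - 1, by omega⟩
    letI := HasDerivedCategory.standard (EtCoh.Ab X)
    letI := HasDerivedCategory.standard (EtCoh.Ab Y)
    haveI : PreservesLimitsOfSize.{0, 0} (EtCoh.push f) := (EtCoh.pullPushAdj f).rightAdjoint_preservesLimits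
    haveI : PreservesFiniteLimits (EtCoh.push f) := PreservesLimitsOfSize.preservesFiniteLimits _
    haveI : Epi (((EtCoh.push f).rightDerived k).map E.g) := by
      rcases k with _ | k
      · haveI : Sheaf.IsLocallySurjective ((EtCoh.push f).map μ) := by
          refine ⟨fun {U} s => (EtSite.mem_topology_iff _).2 fun x => ?_⟩
          obtain ⟨a, ha⟩ := CompTransfer.exists_div_section I ((EtCoh.bc f).obj U)
            (s : I.obj.obj (op ((EtCoh.bc f).obj U))) hm.1
          refine ⟨U, 𝟙 U, x, ⟨a, ?_⟩, rfl⟩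
          refine ((hom_nsmul_app (𝟙 I) m ((EtCoh.bc f).obj U) a).trans ha).trans ?_
          exact congr($(((EtCoh.push f).obj I).obj.map_id (op U)) s).symm
        haveI : Epi ((EtCoh.push f).map μ) := (Sheaf.isLocallySurjective_iff_epi' (φ := (EtCoh.push f).map μ)).1 inferInstance
        haveI : Epi (((EtCoh.push f).toRightDerivedZero.app I) ≫ ((EtCoh.push f).rightDerived 0).map μ) := by
          rw [← NatTrans.naturality]; infer_instance
        exact epi_of_epi ((EtCoh.push f).toRightDerivedZero.app I) _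
      · exact ((EtCoh.push f).isZero_rightDerived_obj_injective_succ k I).epi _
    exact L00.RDerLES.isZero_X₁ (EtCoh.push f) hE k ((EtCoh.push f).isZero_rightDerived_obj_injective_succ k I)

theorem exists_primesIn (L : Set ℕ) {m₀ : ℕ} (hm₀ : 0 < m₀) :
    ∃ m, EtAcyc.PrimesIn L m ∧ ∀ d, d ∣ m₀ → EtAcyc.PrimesIn L d → d ∣ m := by
  classical
  refine ⟨∏ d ∈ m₀.divisors.filter (EtAcyc.PrimesIn L), d, ?_, fun d hd hdL =>
    Finset.dvd_prod_of_mem _ (Finset.mem_filter.2 ⟨Nat.mem_divisors.2 ⟨hd, hm₀.ne'⟩, hdL⟩)⟩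
  refine Finset.prod_induction _ (EtAcyc.PrimesIn L) (fun a b => L28.EtTor.primesIn_mul)
    ⟨Nat.one_pos, fun p hp h1 => absurd (Nat.dvd_one.1 h1) hp.ne_one⟩ fun d hd => (Finset.mem_filter.1 hd).2

theorem killed_torDiag {L : Set ℕ} (F : EtCoh.Ab X) (hF : EtAcyc.IsLTorsion L F) (j : AsSmall.{u} ℕ) :
    Killed L ((torDiag F).obj j) := by
  let n := AsSmall.down.obj j
  obtain ⟨m, hm, hdvd⟩ := exists_primesIn L (Nat.factorial_pos n)
  refine ⟨m, hm, ?_⟩
  have hK : ∀ (V : X.Etale) (t : (kernel (facMap F n)).obj.obj (op V)), n.factorial • t = 0 := fun V t => by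
    apply app_kernel_ι_injective F n V
    rw [map_nsmul, map_zero]
    exact (hom_nsmul_app (𝟙 F) n.factorial V _).symm.trans congr($(kernel.condition (facMap F n)).hom.app (op V) t)
  refine ObjectProperty.hom_ext _ (NatTrans.ext (funext fun U => ?_))
  ext s
  refine (hom_nsmul_app (𝟙 ((torDiag F).obj j)) m U.unop s).trans ?_
  change m • (s : (kernel (facMap F n)).obj.obj U) = 0
  refine EtSite.ext_of_locally (kernel (facMap F n)) fun x => ?_
  obtain ⟨V, g, m₁, ⟨v, hv⟩, hm₁, h₁⟩ := hF U.unop ((kernel.ι (facMap F n)).hom.app U s) x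
  refine ⟨V, g, v, hv, ?_⟩
  have ht : m₁ • (kernel (facMap F n)).obj.map g.op s = 0 := by
    apply app_kernel_ι_injective F n V
    rw [map_nsmul, map_zero]
    exact (congrArg (m₁ • ·) (NatTrans.naturality_apply (kernel.ι (facMap F n)).hom g.op s)).trans h₁
  refine ((map_nsmul ((kernel (facMap F n)).obj.map g.op).hom m (s : (kernel (facMap F n)).obj.obj U)).trans ?_).trans
    (map_zero _).symm
  have hd : addOrderOf ((kernel (facMap F n)).obj.map g.op s) ∣ m :=
    hdvd _ (addOrderOf_dvd_of_nsmul_eq_zero (hK V _))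
      ⟨Nat.pos_of_dvd_of_pos (addOrderOf_dvd_of_nsmul_eq_zero ht) hm₁.1,
        fun p hp hpd => hm₁.2 p hp (hpd.trans (addOrderOf_dvd_of_nsmul_eq_zero ht))⟩
  exact addOrderOf_dvd_iff_nsmul_eq_zero.1 hd

variable {Y : Scheme.{u}} (h : Y ⟶ X)

/-- The comparison condition only has to be checked on sheaves killed by an integer. -/
theorem compN_of_killed [CompactSpace X] [QuasiSeparatedSpace X] [CompactSpace Y] [QuasiSeparatedSpace Y]
    [PreservesFiniteLimits (EtCoh.pull h)] (L : Set ℕ) (n : ℕ)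
    (key : ∀ F : EtCoh.Ab X, Killed L F → (∀ q ≤ n, Function.Bijective (EtCore.Hpull h F q)) ∧
      Function.Injective (EtCore.Hpull h F (n + 1))) :
    EtAcyc.CompN h L n := by
  intro F hF _
  have hT : EtCoh.IsTorsion F := fun U s x => by
    obtain ⟨V, g, m, hv, hm, h0⟩ := hF U s x
    exact ⟨V, g, hv, isOfFinAddOrder_iff_nsmul_eq_zero.2 ⟨m, hm.1, h0⟩⟩
  haveI : AB5OfSize.{u, u} (EtCoh.Ab X) := AB5OfSize_shrink.{u, u, u + 1, u + 1} _
  haveI : AB5OfSize.{u, u} (EtCoh.Ab Y) := AB5OfSize_shrink.{u, u, u + 1, u + 1} _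
  haveI : HasExactColimitsOfShape (AsSmall.{u} ℕ) (EtCoh.Ab X) := inferInstance
  haveI : HasExactColimitsOfShape (AsSmall.{u} ℕ) (EtCoh.Ab Y) := inferInstance
  obtain ⟨hc⟩ := isColimit_torCocone F hT
  haveI : PreservesColimitsOfSize.{u, u} (EtCoh.pull h) := (EtCoh.pullPushAdj h).leftAdjoint_preservesColimits
  have hc' := isColimitOfPreserves (EtCoh.pull h) hc
  let D := torDiag F
  let c := torCocone F
  have hj := fun j => key (D.obj j) (killed_torDiag F hF j)
  have inj : ∀ q, (∀ j, Function.Injective (EtCore.Hpull h (D.obj j) q)) → Function.Injective (EtCore.Hpull h F q) := by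
    intro q hq
    refine (injective_iff_map_eq_zero _).2 fun a ha => ?_
    obtain ⟨j, η, rfl⟩ := (commutes good (EtCore.topIsTerminal X) (hT₀ := ⟨‹_›, ‹_›⟩) q D c hc).1 a
    have e : (EtCoh.HF Y q).map ((EtCoh.pull h).map (c.ι.app j)) (EtCore.Hpull h (D.obj j) q η) = 0 :=
      ((LimCoh.Hpull_map h (c.ι.app j) q η).symm.trans (congrArg _ (LimCoh.HF_map_eq _ _ _))).trans ha
    rw [LimCoh.HF_map_eq] at e
    obtain ⟨k, f, hf⟩ := (commutes good (EtCore.topIsTerminal Y) (hT₀ := ⟨‹_›, ‹_›⟩) q _ _ hc').2 j _ e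
    have : Sheaf.H.map (D.map f) q η = 0 := (hq k) (by
      refine (congrArg _ (LimCoh.HF_map_eq (D.map f) q η).symm).trans ?_
      refine (LimCoh.Hpull_map h (D.map f) q η).trans ?_
      rw [map_zero, LimCoh.HF_map_eq]
      exact hf)
    rw [← c.w f, Sheaf.H.map_comp_apply, this]
    exact map_zero _
  refine ⟨fun q hq => ⟨inj q fun j => ((hj j).1 q hq).1, fun b => ?_⟩, inj (n + 1) fun j => (hj j).2⟩
  obtain ⟨j, η, rfl⟩ := (commutes good (EtCore.topIsTerminal Y) (hT₀ := ⟨‹_›, ‹_›⟩) q _ _ hc').1 b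
  obtain ⟨a, rfl⟩ := ((hj j).1 q hq).2 η
  refine ⟨(EtCoh.HF X q).map (c.ι.app j) a, (LimCoh.Hpull_map h _ q a).trans ?_⟩
  exact LimCoh.HF_map_eq _ _ _

end Groth.L27.DerBC
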