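import Groth.Agent.L27.DerBC.InjHom
import Mathlib.Algebra.Homology.DerivedCategory.ExactFunctor
import Mathlib.CategoryTheory.Adjunction.Basic

/-! # Degree zero of an abstract derived base change morphism -/

universe w v u

open CategoryTheory CategoryTheory.Limits

set_option autoImplicit false
set_option backward.defeqAttrib.useBackward true
set_option backward.isDefEq.respectTransparency false
set_option backward.isDefEq.respectTransparency.types false
set_option linter.style.haveILetI false
set_option linter.unusedSectionVars false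

noncomputable section

namespace Groth.L27.DerBC.Gen

variable {A B C E : Type u} [Category.{v} A] [Category.{v} B] [Category.{v} C] [Category.{v} E]
  [Abelian A] [Abelian B] [Abelian C] [Abelian E]

/-- An object in degree zero in the homotopy category. -/
abbrev hs (A : Type u) [Category.{v} A] [Abelian A] : A ⥤ HomotopyCategory A (ComplexShape.up ℤ) :=
  (HomotopyCategory.singleFunctors A).functor 0

/-- An additive functor applied to an object in degree zero. -/
def τ (F : A ⥤ B) [F.Additive] (a : A) :
    (hs B).obj (F.obj a) ⟶ (F.mapHomotopyCategory (ComplexShape.up ℤ)).obj ((hs A).obj a) :=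
  (HomotopyCategory.quotient _ _).map
    ((HomologicalComplex.singleMapHomologicalComplex F (ComplexShape.up ℤ) 0).inv.app a)

instance (F : A ⥤ B) [F.Additive] (a : A) : IsIso (τ F a) := by
  unfold τ; infer_instance

theorem τ_naturality (F : A ⥤ B) [F.Additive] {a b : A} (φ : a ⟶ b) :
    (hs B).map (F.map φ) ≫ τ F b = τ F a ≫ (F.mapHomotopyCategory (ComplexShape.up ℤ)).map ((hs A).map φ) := by
  have h := (HomologicalComplex.singleMapHomologicalComplex F (ComplexShape.up ℤ) 0).inv.naturality φ
  show (HomotopyCategory.quotient _ _).map _ ≫ (HomotopyCategory.quotient _ _).map _ =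
    (HomotopyCategory.quotient _ _).map _ ≫ (HomotopyCategory.quotient _ _).map _
  rw [← Functor.map_comp, ← Functor.map_comp]
  exact congrArg _ h

variable (F : A ⥤ B) (G : A ⥤ C) (H : C ⥤ E) (K : E ⥤ B)
  [F.Additive] [G.Additive] [H.Additive] [K.Additive] (θ : F ⟶ G ⋙ H ⋙ K)

/-- A transformation into a triple composite, on homotopy categories. -/
def thetaH : F.mapHomotopyCategory (ComplexShape.up ℤ) ⟶
    G.mapHomotopyCategory (ComplexShape.up ℤ) ⋙ H.mapHomotopyCategory (ComplexShape.up ℤ) ⋙
      K.mapHomotopyCategory (ComplexShape.up ℤ) :=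
  NatTrans.mapHomotopyCategory θ (ComplexShape.up ℤ) ≫
    (Functor.mapHomotopyCategoryCompIso (Iso.refl (G ⋙ (H ⋙ K))) (ComplexShape.up ℤ)).inv ≫
    Functor.whiskerLeft (G.mapHomotopyCategory (ComplexShape.up ℤ))
      (Functor.mapHomotopyCategoryCompIso (Iso.refl (H ⋙ K)) (ComplexShape.up ℤ)).inv

theorem thetaH_single (a : A) :
    τ F a ≫ (thetaH F G H K θ).app ((hs A).obj a) =
      (hs B).map (θ.app a) ≫ τ K (H.obj (G.obj a)) ≫
        (K.mapHomotopyCategory (ComplexShape.up ℤ)).map
          (τ H (G.obj a) ≫ (H.mapHomotopyCategory (ComplexShape.up ℤ)).map (τ G a)) := by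
  let S := HomologicalComplex.single A (ComplexShape.up ℤ) 0
  have hP : (thetaH F G H K θ).app ((hs A).obj a) = (HomotopyCategory.quotient _ _).map
      ((NatTrans.mapHomologicalComplex θ (ComplexShape.up ℤ)).app (S.obj a)) := by
    unfold thetaH
    simp only [NatTrans.comp_app, Functor.whiskerLeft_app]
    refine (congrArg ((NatTrans.mapHomotopyCategory θ (ComplexShape.up ℤ)).app _ ≫ ·) ?_).trans (Category.comp_id _)
    simp [Functor.mapHomotopyCategoryCompIso]
    show (HomotopyCategory.quotient _ _).map _ ≫ (HomotopyCategory.quotient _ _).map _ = _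
    rw [← Functor.map_comp]
    refine Eq.trans (congrArg _ ?_) (CategoryTheory.Functor.map_id _ _)
    ext i
    simp
    rfl
  rw [hP]
  show (HomotopyCategory.quotient _ _).map _ ≫ (HomotopyCategory.quotient _ _).map _ =
    (HomotopyCategory.quotient _ _).map _ ≫ (HomotopyCategory.quotient _ _).map _ ≫
      (K.mapHomotopyCategory (ComplexShape.up ℤ)).map
        ((HomotopyCategory.quotient _ _).map _ ≫ (HomotopyCategory.quotient _ _).map
          ((H.mapHomologicalComplex (ComplexShape.up ℤ)).map _))
  rw [← Functor.map_comp, ← Functor.map_comp]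
  show _ = (HomotopyCategory.quotient _ _).map _ ≫ (HomotopyCategory.quotient _ _).map _ ≫
    (HomotopyCategory.quotient _ _).map ((K.mapHomologicalComplex (ComplexShape.up ℤ)).map _)
  rw [← Functor.map_comp, ← Functor.map_comp]
  refine congrArg _ (HomologicalComplex.from_single_hom_ext ?_)
  simp [S, CochainComplex.singleFunctors, HomologicalComplex.single_map_f_self]
  simp only [← Functor.map_comp, Iso.inv_hom_id_assoc]

section Derived

variable [HasDerivedCategory.{w} A] [HasDerivedCategory.{w} B] [HasDerivedCategory.{w} C] [HasDerivedCategory.{w} E]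
  [PreservesFiniteLimits G] [PreservesFiniteColimits G]
  (RF : DerivedCategory A ⥤ DerivedCategory B) (RH : DerivedCategory C ⥤ DerivedCategory E)
  (RK : DerivedCategory E ⥤ DerivedCategory B)
  (αF : F.mapHomotopyCategory (ComplexShape.up ℤ) ⋙ DerivedCategory.Qh ⟶ DerivedCategory.Qh ⋙ RF)
  (αH : H.mapHomotopyCategory (ComplexShape.up ℤ) ⋙ DerivedCategory.Qh ⟶ DerivedCategory.Qh ⋙ RH)
  (αK : K.mapHomotopyCategory (ComplexShape.up ℤ) ⋙ DerivedCategory.Qh ⟶ DerivedCategory.Qh ⋙ RK)

/-- The transformation defining the derived base change morphism. -/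
def genUnit : F.mapHomotopyCategory (ComplexShape.up ℤ) ⋙ DerivedCategory.Qh ⟶
    DerivedCategory.Qh ⋙ (G.mapDerivedCategory ⋙ RH ⋙ RK) :=
  Functor.whiskerRight (thetaH F G H K θ) DerivedCategory.Qh ≫
    (Functor.associator _ _ _).hom ≫
    Functor.whiskerLeft (G.mapHomotopyCategory (ComplexShape.up ℤ))
      ((Functor.associator _ _ _).hom ≫
        Functor.whiskerLeft (H.mapHomotopyCategory (ComplexShape.up ℤ)) αK ≫
        (Functor.associator _ _ _).inv ≫
        Functor.whiskerRight αH RK ≫
        (Functor.associator _ _ _).hom) ≫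
    (Functor.associator _ _ _).inv ≫
    Functor.whiskerRight G.mapDerivedCategoryFactorsh.inv (RH ⋙ RK) ≫
    (Functor.associator _ _ _).hom

variable (bcA : RF ⟶ G.mapDerivedCategory ⋙ RH ⋙ RK)
  (fac : ∀ M, αF.app M ≫ bcA.app (DerivedCategory.Qh.obj M) = (genUnit F G H K θ RH RK αH αK).app M)

/-- The canonical map out of the image of an object. -/
def source (a : A) : DerivedCategory.Qh.obj ((hs B).obj (F.obj a)) ⟶ RF.obj (DerivedCategory.Qh.obj ((hs A).obj a)) :=
  DerivedCategory.Qh.map (τ F a) ≫ αF.app ((hs A).obj a)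

/-- The canonical map into the derived functor of the image of an object. -/
def target (a : A) : DerivedCategory.Qh.obj ((hs E).obj (H.obj (G.obj a))) ⟶
    RH.obj (G.mapDerivedCategory.obj (DerivedCategory.Qh.obj ((hs A).obj a))) :=
  DerivedCategory.Qh.map (τ H (G.obj a) ≫ (H.mapHomotopyCategory (ComplexShape.up ℤ)).map (τ G a)) ≫
    αH.app ((G.mapHomotopyCategory (ComplexShape.up ℤ)).obj ((hs A).obj a)) ≫
    RH.map (G.mapDerivedCategoryFactorsh.inv.app ((hs A).obj a))

theorem isIso_H0_source (a : A)
    [IsIso ((DerivedCategory.homologyFunctor B 0).map (αF.app ((hs A).obj a)))] :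
    IsIso ((DerivedCategory.homologyFunctor B 0).map (source F RF αF a)) := by
  unfold source
  rw [Functor.map_comp]
  infer_instance

theorem isIso_H0_target (a : A) [IsIso ((DerivedCategory.homologyFunctor E 0).map (αH.app ((hs C).obj (G.obj a))))] :
    IsIso ((DerivedCategory.homologyFunctor E 0).map (target G H RH αH a)) := by
  have e : target G H RH αH a = source H RH αH (G.obj a) ≫ RH.map
      (DerivedCategory.Qh.map (τ G a) ≫ G.mapDerivedCategoryFactorsh.inv.app ((hs A).obj a)) := by
    unfold target source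
    rw [Functor.map_comp, Functor.map_comp, Category.assoc, Category.assoc]
    exact congrArg (DerivedCategory.Qh.map (τ H (G.obj a)) ≫ ·)
      ((Category.assoc _ _ _).symm.trans ((congrArg (· ≫ _) (αH.naturality (τ G a))).trans (Category.assoc _ _ _)))
  rw [e, Functor.map_comp]
  haveI := isIso_H0_source H RH αH (G.obj a)
  infer_instance

include fac in
theorem bcA_comp (a : A) {c : E}
    (φ : RH.obj (G.mapDerivedCategory.obj (DerivedCategory.Qh.obj ((hs A).obj a))) ⟶ DerivedCategory.Qh.obj ((hs E).obj c))
    (ψ : H.obj (G.obj a) ⟶ c) (hψ : target G H RH αH a ≫ φ = DerivedCategory.Qh.map ((hs E).map ψ)) :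
    source F RF αF a ≫ bcA.app (DerivedCategory.Qh.obj ((hs A).obj a)) ≫ RK.map φ =
      DerivedCategory.Qh.map ((hs B).map (θ.app a ≫ K.map ψ)) ≫ source K RK αK c := by
  let M := (hs A).obj a
  let κ := τ H (G.obj a) ≫ (H.mapHomotopyCategory (ComplexShape.up ℤ)).map (τ G a)
  let Φ := αH.app ((G.mapHomotopyCategory (ComplexShape.up ℤ)).obj M) ≫ RH.map (G.mapDerivedCategoryFactorsh.inv.app M) ≫ φ
  haveI : IsIso κ := by unfold κ; infer_instance
  have hΦ : Φ = DerivedCategory.Qh.map (inv κ ≫ (hs E).map ψ) := by
    rw [Functor.map_comp, Functor.map_inv, IsIso.eq_inv_comp]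
    refine Eq.trans ?_ hψ
    simp only [Φ, target, Category.assoc]
    rfl
  have hu : (genUnit F G H K θ RH RK αH αK).app M ≫ RK.map φ =
      DerivedCategory.Qh.map ((thetaH F G H K θ).app M) ≫
        αK.app ((H.mapHomotopyCategory (ComplexShape.up ℤ)).obj ((G.mapHomotopyCategory (ComplexShape.up ℤ)).obj M)) ≫
        RK.map Φ := by
    simp only [genUnit, Φ, Functor.map_comp, NatTrans.comp_app, Functor.whiskerRight_app,
      Functor.whiskerLeft_app, Functor.associator_hom_app, Functor.associator_inv_app, Category.assoc,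
      Category.id_comp, Category.comp_id, Functor.comp_map]
  have e1 : αK.app ((H.mapHomotopyCategory (ComplexShape.up ℤ)).obj ((G.mapHomotopyCategory (ComplexShape.up ℤ)).obj M)) ≫
      RK.map Φ = DerivedCategory.Qh.map ((K.mapHomotopyCategory (ComplexShape.up ℤ)).map (inv κ ≫ (hs E).map ψ)) ≫
        αK.app ((hs E).obj c) := by
    rw [hΦ]
    exact (αK.naturality (inv κ ≫ (hs E).map ψ)).symm
  have e2 : τ F a ≫ (thetaH F G H K θ).app M ≫ (K.mapHomotopyCategory (ComplexShape.up ℤ)).map (inv κ ≫ (hs E).map ψ) =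
      (hs B).map (θ.app a ≫ K.map ψ) ≫ τ K c := by
    rw [← Category.assoc, thetaH_single F G H K θ a]
    simp only [Category.assoc]
    rw [← Functor.map_comp, IsIso.hom_inv_id_assoc κ, ← τ_naturality, ← Category.assoc, ← Functor.map_comp]
  calc source F RF αF a ≫ bcA.app (DerivedCategory.Qh.obj M) ≫ RK.map φ
      = DerivedCategory.Qh.map (τ F a) ≫ (αF.app M ≫ bcA.app (DerivedCategory.Qh.obj M)) ≫ RK.map φ := by
        simp only [source, Category.assoc]; rfl
    _ = DerivedCategory.Qh.map (τ F a ≫ (thetaH F G H K θ).app M ≫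
          (K.mapHomotopyCategory (ComplexShape.up ℤ)).map (inv κ ≫ (hs E).map ψ)) ≫ αK.app ((hs E).obj c) := by
        rw [fac, hu, e1]
        simp only [Functor.map_comp, Category.assoc]
    _ = _ := by
        rw [e2, Functor.map_comp, Category.assoc]
        rfl

include fac in
/-- An isomorphism in degree zero gives bijectivity of the degree zero transposed map. -/
theorem bijective_comp_map [EnoughInjectives B] [EnoughInjectives E] (L : DerivedCategory B ⥤ DerivedCategory E)
    (adj : L ⊣ RK) (a : A) (c : E) [Injective c] [Injective (K.obj c)]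
    [IsIso ((DerivedCategory.homologyFunctor B 0).map (αF.app ((hs A).obj a)))]
    [IsIso ((DerivedCategory.homologyFunctor E 0).map (αH.app ((hs C).obj (G.obj a))))]
    [IsIso (αK.app ((hs E).obj c))]
    (hiso : IsIso ((DerivedCategory.homologyFunctor E 0).map
      ((adj.homEquiv _ _).symm (bcA.app ((DerivedCategory.singleFunctor A 0).obj a))))) :
    Function.Bijective (fun ψ : H.obj (G.obj a) ⟶ c => θ.app a ≫ K.map ψ) := by
  let sE := DerivedCategory.singleFunctor E 0
  let sB := DerivedCategory.singleFunctor B 0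
  let S := DerivedCategory.Qh.obj ((hs A).obj a)
  haveI : IsIso (source K RK αK c) := by unfold source; infer_instance
  have hA := (isIso_H0_iff _).1 hiso c
  have ht := (isIso_H0_iff _).1 (isIso_H0_target G H RH αH a) c
  have hsrc : Function.Bijective (fun z : RF.obj S ⟶ RK.obj (sE.obj c) => source F RF αF a ≫ z) := by
    have := (isIso_H0_iff _).1 (isIso_H0_source F RF αF a) (K.obj c)
    have e : (fun z : RF.obj S ⟶ RK.obj (sE.obj c) => source F RF αF a ≫ z) =
        (fun z => z ≫ source K RK αK c) ∘ (fun z => source F RF αF a ≫ z) ∘ (fun z => z ≫ inv (source K RK αK c)) := by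
      funext z
      refine Eq.trans ?_ (Category.assoc _ _ _).symm
      refine congrArg (source F RF αF a ≫ ·) ?_
      rw [Category.assoc, IsIso.inv_hom_id]
      exact (Category.comp_id _).symm
    rw [e]
    exact (Iso.homToEquiv (asIso (source K RK αK c))).bijective.comp
      (this.comp (Iso.homToEquiv (asIso (source K RK αK c)).symm).bijective)
  let Λ : (RH.obj (G.mapDerivedCategory.obj S) ⟶ sE.obj c) → (sB.obj (F.obj a) ⟶ RK.obj (sE.obj c)) := fun φ =>
    source F RF αF a ≫ bcA.app S ≫ RK.map φ
  have hΛ : Function.Bijective Λ := by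
    have e : Λ = (fun z => source F RF αF a ≫ z) ∘ (adj.homEquiv (RF.obj S) (sE.obj c)) ∘
        (fun φ => (adj.homEquiv _ _).symm (bcA.app S) ≫ φ) := by
      funext φ
      refine congrArg (source F RF αF a ≫ ·) ?_
      refine Eq.trans ?_ (adj.homEquiv_naturality_right _ φ).symm
      rw [Equiv.apply_symm_apply]
    rw [e]
    exact hsrc.comp ((Equiv.bijective _).comp hA)
  let T : (RH.obj (G.mapDerivedCategory.obj S) ⟶ sE.obj c) → (H.obj (G.obj a) ⟶ c) := fun φ =>
    sE.preimage (target G H RH αH a ≫ φ)
  have hT : Function.Bijective T := (Functor.FullyFaithful.ofFullyFaithful sE).homEquiv.symm.bijective.comp ht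
  let Γ : (H.obj (G.obj a) ⟶ c) → (F.obj a ⟶ K.obj c) := fun ψ => θ.app a ≫ K.map ψ
  let J : (F.obj a ⟶ K.obj c) → (sB.obj (F.obj a) ⟶ RK.obj (sE.obj c)) := fun m => sB.map m ≫ source K RK αK c
  have hJ : Function.Bijective J := (Iso.homToEquiv (asIso (source K RK αK c))).bijective.comp
    (Functor.FullyFaithful.ofFullyFaithful sB).homEquiv.bijective
  have key : J ∘ Γ ∘ T = Λ := funext fun φ =>
    (bcA_comp F G H K θ RF RH RK αF αH αK bcA fac a φ _ (sE.map_preimage _).symm).symm
  have h1 : Function.Bijective (Γ ∘ T) := (hJ.of_comp_iff' _).1 (key ▸ hΛ)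
  exact (Function.Bijective.of_comp_iff Γ hT).1 h1

end Derived

end Groth.L27.DerBC.Gen
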