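import Groth.Agent.L27.DerBC.Der
import Groth.Agent.L27.DerBC.CompatGen
import Groth.Agent.L27.EtSite.Pull

/-! # The derived base change morphism in degree zero -/

universe u

open CategoryTheory CategoryTheory.Limits AlgebraicGeometry

attribute [local instance] HasDerivedCategory.standard

set_option autoImplicit false
set_option backward.defeqAttrib.useBackward true
set_option backward.isDefEq.respectTransparency false
set_option backward.isDefEq.respectTransparency.types false
set_option linter.style.haveILetI false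

noncomputable section

namespace Groth.L27.DerBC

theorem injective_push_obj {X Y : Scheme.{u}} (f : X ⟶ Y) (A : EtCoh.Ab X) [Injective A] :
    Injective ((EtCoh.push f).obj A) :=
  haveI := EtSite.preservesFiniteLimits_pull f
  Injective.injective_of_adjoint (EtCoh.pullPushAdj f) A

variable {X Y Xb Yb : Scheme.{u}} (p : Xb ⟶ X) (h : Y ⟶ X) (pY : Yb ⟶ Y) (hb : Yb ⟶ Xb) (w : hb ≫ p = pY ≫ h)
  [PreservesFiniteLimits (EtCoh.pull hb)] [DCoh.HasRpushEt Xb p] [DCoh.HasRpushEt Yb pY] [DCoh.HasRpushEt Y h]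

theorem bcUnit_eq : EtBC.bcUnit p h pY hb w = Gen.genUnit (EtCoh.push p) (EtCoh.pull hb) (EtCoh.push pY)
    (EtCoh.push h) (EtBC.pushToPushPull p h pY hb w) (DCoh.RpushEt Yb pY) (DCoh.RpushEt Y h) (unit pY) (unit h) := by
  delta EtBC.bcUnit Gen.genUnit EtBC.pushToPushPullH Gen.thetaH
  rfl

theorem fac_bcAdj (M : HomotopyCategory (EtCoh.Ab Xb) (ComplexShape.up ℤ)) :
    (unit p).app M ≫ (EtBC.bcAdj p h pY hb w).app (DerivedCategory.Qh.obj M) = (EtBC.bcUnit p h pY hb w).app M :=
  (DCoh.RpushEt Xb p).rightDerived_fac_app _ _ _ _ M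

variable [PreservesFiniteLimits (EtCoh.pull h)] (adj : EtBC.pullD h ⊣ DCoh.RpushEt Y h)

/-- If the derived base change morphism is invertible in degree zero, so is the degree zero base change map. -/
theorem isIso_baseChange0_of_bcMap (F : EtCoh.Ab Xb)
    (hiso : IsIso ((DerivedCategory.homologyFunctor (EtCoh.Ab Y) 0).map
      (EtBC.bcMap p h pY hb w adj (EtBC.single Xb F)))) :
    IsIso (EtCoh.baseChange0 p h pY hb w F) := by
  refine isIso_of_bijective_injectives _ fun A _ => ?_
  haveI := injective_push_obj h A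
  haveI := isIso_H0_unit p F
  haveI := isIso_H0_unit pY ((EtCoh.pull hb).obj F)
  haveI := isIso_unit_injective h A
  have hG := Gen.bijective_comp_map (EtCoh.push p) (EtCoh.pull hb) (EtCoh.push pY) (EtCoh.push h)
    (EtBC.pushToPushPull p h pY hb w) (DCoh.RpushEt Xb p) (DCoh.RpushEt Yb pY) (DCoh.RpushEt Y h)
    (unit p) (unit pY) (unit h) (EtBC.bcAdj p h pY hb w)
    (fun M => (fac_bcAdj p h pY hb w M).trans (congrArg (fun t => t.app M) (bcUnit_eq p h pY hb w)))
    (EtBC.pullD h) adj F A hiso
  have e : EtCoh.baseChange0 p h pY hb w F =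
      ((EtCoh.pullPushAdj h).homEquiv _ _).symm ((EtBC.pushToPushPull p h pY hb w).app F) := by
    simp only [EtBC.pushToPushPull, EtCoh.baseChange0]
    congr 1
  rw [e]
  have e' : (fun ψ => ((EtCoh.pullPushAdj h).homEquiv _ _).symm ((EtBC.pushToPushPull p h pY hb w).app F) ≫ ψ) =
      ((EtCoh.pullPushAdj h).homEquiv ((EtCoh.push p).obj F) A).symm ∘
        (fun ψ : (EtCoh.push pY).obj ((EtCoh.pull hb).obj F) ⟶ A =>
          (EtBC.pushToPushPull p h pY hb w).app F ≫ (EtCoh.push h).map ψ) :=
    funext fun ψ => ((EtCoh.pullPushAdj h).homEquiv_naturality_right_symm _ ψ).symm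
  exact e' ▸ (Equiv.bijective _).comp hG

end Groth.L27.DerBC
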