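import Groth.Agent.L27.DerBC.InjHom
import Groth.Agent.L10.KInjDerived
import Groth.Agent.L17.AcyclicCx
import Groth.Agent.L00.RDerLES
import Groth.Prelude.Def_DCoh2
import Groth.Prelude.Def_EtBCD
import Mathlib.CategoryTheory.Abelian.Injective.Extend
import Mathlib.Algebra.Homology.DerivedCategory.ExactFunctor
import Mathlib.CategoryTheory.Abelian.GrothendieckCategory.EnoughInjectives

/-! # Derived direct images of a single etale sheaf -/

universe u

open CategoryTheory CategoryTheory.Limits AlgebraicGeometry

attribute [local instance] HasDerivedCategory.standard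

set_option autoImplicit false
set_option backward.defeqAttrib.useBackward true
set_option backward.isDefEq.respectTransparency false
set_option backward.isDefEq.respectTransparency.types false
set_option linter.style.haveILetI false

noncomputable section

namespace Groth.L27.DerBC

section Generic

variable {C : Type (u + 2)} [Category.{u + 1} C] [Abelian C]

/-- Homology of a complex seen in the derived category. -/
def homologyQh (K : CochainComplex C ℤ) (q : ℤ) :
    (DerivedCategory.homologyFunctor C q).obj (DerivedCategory.Qh.obj ((HomotopyCategory.quotient _ _).obj K)) ≅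
      K.homology q :=
  (DerivedCategory.homologyFunctor C q).mapIso ((DerivedCategory.quotientCompQhIso C).app K) ≪≫
    (DerivedCategory.homologyFunctorFactors C q).app K

theorem isIso_homology_Qh_map {K L : CochainComplex C ℤ} (φ : K ⟶ L) (q : ℤ) (h : QuasiIsoAt φ q) :
    IsIso ((DerivedCategory.homologyFunctor C q).map (DerivedCategory.Qh.map ((HomotopyCategory.quotient _ _).map φ))) := by
  rw [quasiIsoAt_iff_isIso_homologyMap] at h
  exact (NatIso.isIso_map_iff (Functor.isoWhiskerRight (DerivedCategory.quotientCompQhIso C) (DerivedCategory.homologyFunctor C q) ≪≫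
    DerivedCategory.homologyFunctorFactors C q) φ).2 h

end Generic

variable {X Y : Scheme.{u}} (f : X ⟶ Y) [DCoh.HasRpushEt X f]

/-- A sheaf in degree zero in the homotopy category. -/
abbrev hs (X : Scheme.{u}) : EtCoh.Ab X ⥤ HomotopyCategory (EtCoh.Ab X) (ComplexShape.up ℤ) :=
  (HomotopyCategory.singleFunctors (EtCoh.Ab X)).functor 0

/-- The unit of the derived direct image. -/
abbrev unit : DCoh.pushEtKh X f ⟶ DerivedCategory.Qh ⋙ DCoh.RpushEt X f :=
  (DCoh.pushEtKh X f).totalRightDerivedUnit DerivedCategory.Qh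
    (HomotopyCategory.quasiIso (EtCoh.Ab X) (ComplexShape.up ℤ))

theorem isIso_unit_injective (A : EtCoh.Ab X) [Injective A] : IsIso ((unit f).app ((hs X).obj A)) := by
  haveI := isKInjective_sgl A
  exact L10.KInjDerived.isIso_app_quotient (unit f) (sgl A)

omit [DCoh.HasRpushEt X f] in
theorem preservesFiniteLimits_push : PreservesFiniteLimits (EtCoh.push f) :=
  haveI : PreservesLimitsOfSize.{0, 0} (EtCoh.push f) := (EtCoh.pullPushAdj f).rightAdjoint_preservesLimits
  PreservesLimitsOfSize.preservesFiniteLimits _

omit [DCoh.HasRpushEt X f] in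
theorem quasiIsoAt_zero {F : EtCoh.Ab X} (R : InjectiveResolution F) :
    QuasiIsoAt (((EtCoh.push f).mapHomologicalComplex (.up ℤ)).map R.ι') 0 := by
  haveI := preservesFiniteLimits_push f
  let T := (EtCoh.push f).mapHomologicalComplex (ComplexShape.up ℕ)
  let K := T.obj ((CochainComplex.single₀ (EtCoh.Ab X)).obj F)
  have h0 : QuasiIsoAt (T.map R.ι) 0 := by
    have hd : K.d 0 1 = 0 := by simp [K, T]
    haveI : IsIso (K.iCycles 0) := K.isIso_iCycles 0 1 (by simp) hd
    have e : HomologicalComplex.cyclesMap (T.map R.ι) 0 = K.iCycles 0 ≫ R.toRightDerivedZero' (EtCoh.push f) := by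
      rw [← cancel_mono (HomologicalComplex.iCycles _ _), HomologicalComplex.cyclesMap_i,
        Category.assoc, R.toRightDerivedZero'_comp_iCycles]
      rfl
    rw [quasiIsoAt_iff_isIso_homologyMap, ← isIso_comp_left_iff (CochainComplex.isoHomologyπ₀ K).hom,
      show (CochainComplex.isoHomologyπ₀ K).hom = K.homologyπ 0 from rfl,
      HomologicalComplex.homologyπ_naturality (T.map R.ι) 0, e, isIso_comp_right_iff, isIso_comp_left_iff]
    have h : IsIso ((EtCoh.push f).toRightDerivedZero.app F) := inferInstance
    rw [R.toRightDerivedZero_eq] at h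
    exact (isIso_comp_right_iff _ _).1 h
  rw [InjectiveResolution.ι', Functor.map_comp]
  refine (quasiIsoAt_iff_comp_left _ _ 0).2 ?_
  rw [quasiIsoAt_iff_isIso_homologyMap]
  have h1 : QuasiIsoAt (HomologicalComplex.extendMap (T.map R.ι) ComplexShape.embeddingUpNat) (0 : ℤ) :=
    (HomologicalComplex.quasiIsoAt_extendMap_iff _ _ (j := 0) rfl).2 h0
  rw [quasiIsoAt_iff_isIso_homologyMap] at h1
  let sq : Arrow.mk (((EtCoh.push f).mapHomologicalComplex (.up ℤ)).map
      (HomologicalComplex.extendMap R.ι ComplexShape.embeddingUpNat)) ≅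
      Arrow.mk (HomologicalComplex.extendMap (T.map R.ι) ComplexShape.embeddingUpNat) :=
    Arrow.isoMk (L17.GrothSS.mapExtendIso (EtCoh.push f) _ _) (L17.GrothSS.mapExtendIso (EtCoh.push f) _ _)
      (L00.RDerLES.mapExtendIso_naturality (EtCoh.push f) R.ι ComplexShape.embeddingUpNat).symm
  exact ((MorphismProperty.isomorphisms _).arrow_mk_iso_iff
    ((HomologicalComplex.homologyFunctor (EtCoh.Ab Y) (ComplexShape.up ℤ) 0).mapArrow.mapIso sq)).2 h1

theorem isIso_qh_ι' {F : EtCoh.Ab X} (R : InjectiveResolution F) :
    IsIso (DerivedCategory.Qh.map ((HomotopyCategory.quotient _ _).map R.ι')) :=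
  Localization.inverts DerivedCategory.Qh (HomotopyCategory.quasiIso (EtCoh.Ab X) (ComplexShape.up ℤ)) _
    ((HomotopyCategory.quotient_map_mem_quasiIso_iff R.ι').2 ((HomologicalComplex.mem_quasiIso_iff _).2 inferInstance))

/-- The unit at a single sheaf is invertible in degree zero. -/
theorem isIso_H0_unit (F : EtCoh.Ab X) :
    IsIso ((DerivedCategory.homologyFunctor (EtCoh.Ab Y) 0).map ((unit f).app ((hs X).obj F))) := by
  let R := injectiveResolution F
  haveI : R.cochainComplex.IsKInjective := CochainComplex.isKInjective_of_injective _ 0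
  haveI := L10.KInjDerived.isIso_app_quotient (unit f) R.cochainComplex
  haveI := isIso_qh_ι' R
  let H := DerivedCategory.homologyFunctor (EtCoh.Ab Y) 0
  let i := (HomotopyCategory.quotient (EtCoh.Ab X) (ComplexShape.up ℤ)).map R.ι'
  haveI : IsIso (H.map ((DCoh.pushEtKh X f).map i)) :=
    isIso_homology_Qh_map (((EtCoh.push f).mapHomologicalComplex (.up ℤ)).map R.ι') 0 (quasiIsoAt_zero f R)
  haveI : IsIso (H.map ((unit f).app ((hs X).obj F)) ≫ H.map ((DCoh.RpushEt X f).map (DerivedCategory.Qh.map i))) := by
    rw [← Functor.map_comp]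
    erw [← (unit f).naturality i, Functor.map_comp]
    infer_instance
  exact IsIso.of_isIso_comp_right _ (H.map ((DCoh.RpushEt X f).map (DerivedCategory.Qh.map i)))

/-- The homology of the derived direct image of a sheaf is given by the higher direct images. -/
theorem nonempty_homology_RpushEt (F : EtCoh.Ab X) (q : ℕ) :
    Nonempty ((DerivedCategory.homologyFunctor (EtCoh.Ab Y) (q : ℤ)).obj
      ((DCoh.RpushEt X f).obj ((DerivedCategory.singleFunctor (EtCoh.Ab X) 0).obj F)) ≅ (EtCoh.Rpush f q).obj F) := by
  let R := injectiveResolution F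
  haveI : R.cochainComplex.IsKInjective := CochainComplex.isKInjective_of_injective _ 0
  haveI := L10.KInjDerived.isIso_app_quotient (unit f) R.cochainComplex
  haveI := isIso_qh_ι' R
  exact ⟨(DerivedCategory.homologyFunctor (EtCoh.Ab Y) (q : ℤ)).mapIso
    ((DCoh.RpushEt X f).mapIso (asIso (DerivedCategory.Qh.map ((HomotopyCategory.quotient _ _).map R.ι'))) ≪≫
      (asIso ((unit f).app ((HomotopyCategory.quotient _ _).obj R.cochainComplex))).symm) ≪≫
    homologyQh (((EtCoh.push f).mapHomologicalComplex (.up ℤ)).obj R.cochainComplex) (q : ℤ) ≪≫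
      L17.GrothSS.homologyMapCochainIso (EtCoh.push f) R q⟩

omit [DCoh.HasRpushEt X f]

/-- Exact functors preserve vanishing of homology in the derived category. -/
theorem isZero_homology_mapDerived [PreservesFiniteLimits (EtCoh.pull f)]
    (K : DCoh.DEt Y) (q : ℤ) (h : IsZero ((DerivedCategory.homologyFunctor (EtCoh.Ab Y) q).obj K)) :
    IsZero ((DerivedCategory.homologyFunctor (EtCoh.Ab X) q).obj ((EtCoh.pull f).mapDerivedCategory.obj K)) := by
  let L := DerivedCategory.Q.objPreimage K
  let e := DerivedCategory.Q.objObjPreimageIso K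
  have hL : L.ExactAt q := (L.exactAt_iff_isZero_homology q).2
    (h.of_iso (((DerivedCategory.homologyFunctorFactors _ q).app L).symm ≪≫
      (DerivedCategory.homologyFunctor (EtCoh.Ab Y) q).mapIso e))
  rw [L.exactAt_iff] at hL
  have hM : (((EtCoh.pull f).mapHomologicalComplex (.up ℤ)).obj L).ExactAt q :=
    (HomologicalComplex.exactAt_iff _ q).2 (hL.map (EtCoh.pull f))
  refine IsZero.of_iso ((HomologicalComplex.exactAt_iff_isZero_homology _ q).1 hM) ?_
  exact (DerivedCategory.homologyFunctor (EtCoh.Ab X) q).mapIso ((EtCoh.pull f).mapDerivedCategory.mapIso e.symm ≪≫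
      (EtCoh.pull f).mapDerivedCategoryFactors.app L) ≪≫
    (DerivedCategory.homologyFunctorFactors _ q).app _

end Groth.L27.DerBC
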