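import Groth.Agent.L27.DerBC.Compat
import Groth.Agent.L27.DerBC.Killed
import Groth.Agent.L27.CompTransfer.Descend

/-! # Descent of the comparison condition along surjections -/

universe u

open CategoryTheory CategoryTheory.Limits AlgebraicGeometry Opposite CategoryTheory.Abelian

attribute [local instance] HasDerivedCategory.standard

set_option autoImplicit false
set_option backward.isDefEq.respectTransparency.types false
set_option linter.style.haveILetI false
set_option linter.unusedSectionVars false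

noncomputable section

namespace Groth.L27.DerBC

open Groth.L27.LimCoh Groth.L27.CompTransfer

variable {X Y Xb Yb : Scheme.{u}} (h : Y ⟶ X) (p : Xb ⟶ X) (hb : Yb ⟶ Xb) (pY : Yb ⟶ Y) (w : hb ≫ p = pY ≫ h)
  [PreservesFiniteLimits (EtCoh.pull h)] [PreservesFiniteLimits (EtCoh.pull hb)]

/-- Vanishing of higher direct images after base change. -/
theorem isZero_Rpush_of_bcMap [DCoh.HasRpushEt Xb p] [DCoh.HasRpushEt Yb pY] [DCoh.HasRpushEt Y h]
    (adj : EtBC.pullD h ⊣ DCoh.RpushEt Y h) (G : EtCoh.Ab Xb) (q : ℕ)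
    (hiso : IsIso ((DerivedCategory.homologyFunctor (EtCoh.Ab Y) (q : ℤ)).map
      (EtBC.bcMap p h pY hb w adj (EtBC.single Xb G))))
    (hz : IsZero ((EtCoh.Rpush p q).obj G)) : IsZero ((EtCoh.Rpush pY q).obj ((EtCoh.pull hb).obj G)) := by
  obtain ⟨e⟩ := nonempty_homology_RpushEt p G q
  obtain ⟨e'⟩ := nonempty_homology_RpushEt pY ((EtCoh.pull hb).obj G) q
  have h1 := isZero_homology_mapDerived h _ (q : ℤ) (hz.of_iso e)
  have h2 := h1.of_iso (asIso ((DerivedCategory.homologyFunctor (EtCoh.Ab Y) (q : ℤ)).map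
    (EtBC.bcMap p h pY hb w adj (EtBC.single Xb G)))).symm
  exact h2.of_iso (e'.symm ≪≫ ((DerivedCategory.homologyFunctor (EtCoh.Ab Y) (q : ℤ)).mapIso
    ((DCoh.RpushEt Yb pY).mapIso (((EtCoh.pull hb).mapDerivedCategorySingleFunctor 0).app G))).symm)

/-- Bijectivity in degree zero descends to a direct image. -/
theorem bijective_Hpull_push_zero (G : EtCoh.Ab Xb) [IsIso (EtCoh.baseChange0 p h pY hb w G)]
    (hhb : Function.Bijective (EtCore.Hpull hb G 0)) :
    Function.Bijective (EtCore.Hpull h ((EtCoh.push p).obj G) 0) := by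
  rw [bijective_Hpull_zero_iff] at hhb ⊢
  let ηb : G ⟶ (EtCoh.push hb).obj ((EtCoh.pull hb).obj G) := (EtCoh.pullPushAdj hb).unit.app G
  let c := EtCoh.baseChange0 p h pY hb w G
  let iso := (EtCoh.pushComp p hb).app ((EtCoh.pull hb).obj G) ≪≫
    (EtCoh.pushCongr w).app ((EtCoh.pull hb).obj G) ≪≫ ((EtCoh.pushComp h pY).app ((EtCoh.pull hb).obj G)).symm
  have e : (EtCoh.pullPushAdj h).unit.app ((EtCoh.push p).obj G) ≫ (EtCoh.push h).map c =
      (EtCoh.push p).map ηb ≫ iso.hom :=
    ((EtCoh.pullPushAdj h).homEquiv_unit _ _ c).symm.trans (Equiv.apply_symm_apply _ _)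
  let k := (EtCore.bcTopIso p).hom
  have hn : (ηb.hom.app (op ((EtCoh.bc p).obj (EtCoh.top X)))) ∘ G.obj.map k.op =
      ((EtCoh.push hb).obj ((EtCoh.pull hb).obj G)).obj.map k.op ∘ ηb.hom.app (op (EtCoh.top Xb)) :=
    funext fun s => NatTrans.naturality_apply ηb.hom k.op s
  have h3 : Function.Bijective (ηb.hom.app (op ((EtCoh.bc p).obj (EtCoh.top X)))) :=
    (Function.Bijective.of_comp_iff _ (ConcreteCategory.bijective_of_isIso (G.obj.map k.op))).1 (hn ▸
      ((ConcreteCategory.bijective_of_isIso (((EtCoh.push hb).obj ((EtCoh.pull hb).obj G)).obj.map k.op)).comp hhb))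
  let T := op (EtCoh.top X)
  have h1 : Function.Bijective (((EtCoh.push p).map ηb ≫ iso.hom).hom.app T) :=
    (ConcreteCategory.bijective_of_isIso (((sheafToPresheaf _ _).map iso.hom).app T)).comp h3
  rw [← e] at h1
  exact ((ConcreteCategory.bijective_of_isIso
    (((sheafToPresheaf _ _).map ((EtCoh.push h).map c)).app T)).of_comp_iff' _).1 h1

theorem secEq_map_injective {F G : EtCoh.Ab X} (u : F ⟶ G) [Mono u] :
    Function.Injective ((EtCoh.HF X 0).map u) := fun a b hab => by
  apply (secEq F).injective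
  have h2 := congrArg (secEq G) hab
  rw [secEq_map, secEq_map] at h2
  exact (AddCommGrpCat.mono_iff_injective _).1 ((NatTrans.mono_iff_mono_app _).1
    (inferInstanceAs (Mono ((sheafToPresheaf X.smallEtaleTopology AddCommGrpCat.{u + 1}).map u))) _) h2

variable [DCoh.HasRpushEt Xb p] [DCoh.HasRpushEt Yb pY] [DCoh.HasRpushEt Y h]
  (adj : EtBC.pullD h ⊣ DCoh.RpushEt Y h)

include w in
/-- The comparison condition descends along a surjection. -/
theorem compN_of_bcMap [CompactSpace X] [QuasiSeparatedSpace X] [CompactSpace Y] [QuasiSeparatedSpace Y]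
    [Surjective p] (L : Set ℕ) (n : ℕ) (hn : 1 ≤ n) (hhb : EtAcyc.CompN hb L n)
    (hbc : ∀ Fb : EtCoh.Ab Xb, EtAcyc.IsLTorsion L Fb → ∀ i : ℕ, i < n →
      IsIso ((DerivedCategory.homologyFunctor (EtCoh.Ab Y) (i : ℤ)).map
        (EtBC.bcMap p h pY hb w adj (EtBC.single Xb Fb)))) :
    EtAcyc.CompN h L n := by
  haveI := EtSite.preservesFiniteLimits_pull pY
  haveI := EtSite.preservesFiniteLimits_pull p
  -- torsion effacements by direct images
  have eff : ∀ F : EtCoh.Ab X, Killed L F → ∃ (G : EtCoh.Ab Xb) (u : F ⟶ (EtCoh.push p).obj G),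
      Mono u ∧ Killed L ((EtCoh.push p).obj G) ∧
      (∀ k, Subsingleton (EtCoh.H X ((EtCoh.push p).obj G) (k + 1))) ∧
      Function.Bijective (EtCore.Hpull h ((EtCoh.push p).obj G) 0) ∧
      ∀ k, k + 1 ≤ n → Subsingleton (EtCoh.H Y ((EtCoh.pull h).obj ((EtCoh.push p).obj G)) (k + 1)) := by
    intro F hF
    obtain ⟨G, v, _, hGk, hGv, hGR⟩ := exists_killed_effacement _ (hF.map (EtCoh.pull p))
    have hG := hGk.isLTorsion
    haveI : PreservesLimitsOfSize.{0, 0} (EtCoh.push p) := (EtCoh.pullPushAdj p).rightAdjoint_preservesLimits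
    haveI := HenselClosed.mono_unit p F
    haveI := isIso_baseChange0_of_bcMap p h pY hb w adj G (by exact_mod_cast hbc G hG 0 hn)
    refine ⟨G, (EtCoh.pullPushAdj p).unit.app F ≫ (EtCoh.push p).map v, inferInstance, hGk.map (EtCoh.push p),
      fun k => haveI := hGv k; (EtSite.bijective_HofPush p G (fun q hq => hGR p q hq) (k + 1)).1.subsingleton,
      bijective_Hpull_push_zero h p hb pY w G ((hhb G hG).1 0 (Nat.zero_le _)), fun k hk => ?_⟩
    obtain ⟨-, hi⟩ := edge pY k ((EtCoh.pull hb).obj G) fun q h1 h2 =>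
      isZero_Rpush_of_bcMap h p hb pY w adj G q (hbc G hG q (by omega)) (hGR p q h1)
    haveI : Subsingleton (EtCoh.H Yb ((EtCoh.pull hb).obj G) (k + 1)) :=
      haveI := hGv k
      ((hhb G hG).1 (k + 1) hk).2.subsingleton
    exact Function.Injective.subsingleton (f := EtLim.HofPush pY _ (k + 1) ∘
        (EtCoh.HF Y (k + 1)).map (EtCoh.baseChange0 p h pY hb w G))
      (hi.comp (ConcreteCategory.bijective_of_isIso _).1)
  have inj0 : ∀ F : EtCoh.Ab X, Killed L F → Function.Injective (EtCore.Hpull h F 0) := by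
    intro F hF a b hab
    obtain ⟨G, u, _, -, -, h0, -⟩ := eff F hF
    refine secEq_map_injective u (h0.1 ?_)
    rw [Hpull_map, Hpull_map, hab]
  have key : ∀ m ≤ n, ∀ F : EtCoh.Ab X, Killed L F → Function.Bijective (EtCore.Hpull h F m) ∧
      Function.Injective (EtCore.Hpull h F (m + 1)) := by
    intro m
    induction m with
    | zero =>
      intro _ F hF
      obtain ⟨G, u, _, hG, hGv, h0, -⟩ := eff F hF
      let E := ShortComplex.mk u (cokernel.π u) (cokernel.condition u)
      have hE : E.ShortExact := { exact := ShortComplex.exact_of_g_is_cokernel _ (cokernelIsCokernel _) }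
      have hQ : Killed L E.X₃ := hG.of_epi (cokernel.π u)
      refine ⟨⟨inj0 F hF, fun b => ?_⟩, (injective_iff_map_eq_zero _).2 fun a ha => ?_⟩
      · obtain ⟨z, hz⟩ := h0.2 ((EtCoh.HF Y 0).map ((EtCoh.pull h).map u) b)
        have hz0 : (EtCoh.HF X 0).map E.g z = 0 := by
          refine inj0 _ hQ ?_
          rw [Hpull_map, hz, ← HF_map_comp, ← Functor.map_comp, cokernel.condition u]
          refine Eq.trans ?_ (map_zero _).symm
          rw [Functor.map_zero, Functor.map_zero]
          rfl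
        rw [EtSite.HF_map_apply] at hz0
        obtain ⟨a, ha⟩ := Ext.covariant_sequence_exact₂ _ hE z hz0
        refine ⟨a, ?_⟩
        haveI : Mono ((EtCoh.pull h).map u) := inferInstance
        refine secEq_map_injective ((EtCoh.pull h).map u) ?_
        refine (Hpull_map h u 0 a).symm.trans ((congrArg (EtCore.Hpull h _ 0) ?_).trans hz)
        exact (EtSite.HF_map_apply u 0 a).trans ha
      · obtain ⟨x, rfl⟩ := exists_δH hE 0 a (haveI := hGv 0; Subsingleton.elim (α := EtCoh.H X ((EtCoh.push p).obj G) 1) _ _)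
        rw [Hpull_δH h hE] at ha
        obtain ⟨z, hz⟩ := exists_map_of_δH_eq_zero (hE.map_of_exact (EtCoh.pull h)) 0 _ ha
        obtain ⟨z', rfl⟩ := h0.2 z
        have : x = (EtCoh.HF X 0).map E.g z' := inj0 _ hQ (by rw [Hpull_map]; exact hz.symm)
        rw [this, δH_map_g]
    | succ m ih =>
      intro hm F hF
      have hm' : m ≤ n := Nat.le_of_succ_le hm
      obtain ⟨G, u, _, hG, hGv, -, hvan⟩ := eff F hF
      let E := ShortComplex.mk u (cokernel.π u) (cokernel.condition u)
      have hE : E.ShortExact := { exact := ShortComplex.exact_of_g_is_cokernel _ (cokernelIsCokernel _) }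
      have hQ : Killed L E.X₃ := hG.of_epi (cokernel.π u)
      haveI := hvan m hm
      refine ⟨⟨(ih hm' F hF).2, fun b => ?_⟩, (injective_iff_map_eq_zero _).2 fun a ha => ?_⟩
      · obtain ⟨y, hy⟩ := exists_δH (hE.map_of_exact (EtCoh.pull h)) m b
          (Subsingleton.elim (α := EtCoh.H Y ((EtCoh.pull h).obj ((EtCoh.push p).obj G)) (m + 1)) _ _)
        obtain ⟨x, rfl⟩ := (ih hm' E.X₃ hQ).1.2 y
        exact ⟨δH hE m x, (Hpull_δH h hE m x).trans hy⟩
      · obtain ⟨x, rfl⟩ := exists_δH hE (m + 1) a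
          (haveI := hGv (m + 1); Subsingleton.elim (α := EtCoh.H X ((EtCoh.push p).obj G) (m + 1 + 1)) _ _)
        rw [Hpull_δH h hE] at ha
        obtain ⟨z, hz⟩ := exists_map_of_δH_eq_zero (hE.map_of_exact (EtCoh.pull h)) (m + 1) _ ha
        have hx : EtCore.Hpull h E.X₃ (m + 1) x = 0 := by
          rw [← hz, Subsingleton.elim (α := EtCoh.H Y ((EtCoh.pull h).obj ((EtCoh.push p).obj G)) (m + 1)) z 0]
          exact map_zero _
        rw [(ih hm' E.X₃ hQ).2 (hx.trans (map_zero _).symm)]
        exact map_zero _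
  exact compN_of_killed h L n fun F hF => ⟨fun q hq => (key q hq F hF).1, (key n le_rfl F hF).2⟩

end Groth.L27.DerBC
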