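import Mathlib.Algebra.Homology.DerivedCategory.KInjective
import Mathlib.Algebra.Homology.DerivedCategory.FullyFaithful
import Mathlib.Algebra.Homology.SingleHomology
import Mathlib.CategoryTheory.Preadditive.Injective.Basic

/-! # Maps in the derived category to an injective object in degree zero -/

universe w v u

open CategoryTheory CategoryTheory.Limits

set_option autoImplicit false
set_option backward.isDefEq.respectTransparency.types false
set_option linter.style.haveILetI false

noncomputable section

namespace Groth.L27.DerBC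

variable {C : Type u} [Category.{v} C] [Abelian C] (A : C) [Injective A]

/-- The complex with an injective object in degree zero. -/
abbrev sgl : CochainComplex C ℤ := (HomologicalComplex.single C (ComplexShape.up ℤ) 0).obj A

theorem isKInjective_sgl : (sgl A).IsKInjective := by
  haveI : (sgl A).IsStrictlyGE 0 := (CochainComplex.isStrictlyGE_iff _ 0).2
    fun i hi => HomologicalComplex.isZero_single_obj_X _ _ _ _ (by omega)
  haveI : ∀ i, Injective ((sgl A).X i) := fun i => by
    by_cases hi : i = 0
    · subst hi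
      exact Injective.of_iso (HomologicalComplex.singleObjXSelf (ComplexShape.up ℤ) 0 A).symm inferInstance
    · have hz : IsZero ((sgl A).X i) := HomologicalComplex.isZero_single_obj_X _ _ _ _ hi
      exact ⟨fun f g _ => ⟨0, hz.eq_of_tgt _ _⟩⟩
  exact CochainComplex.isKInjective_of_injective _ 0

theorem exists_lift (K : CochainComplex C ℤ) (a : K.homology 0 ⟶ (sgl A).homology 0) :
    ∃ ψ : K ⟶ sgl A, HomologicalComplex.homologyMap ψ 0 = a := by
  let e := HomologicalComplex.singleObjOpcyclesSelfIso (ComplexShape.up ℤ) 0 A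
  let b : K.opcycles 0 ⟶ A :=
    Injective.factorThru (a ≫ (sgl A).homologyι 0 ≫ e.inv) (K.homologyι 0)
  refine ⟨HomologicalComplex.mkHomToSingle (K.pOpcycles 0 ≫ b)
    (fun i _ => by rw [← Category.assoc, K.d_pOpcycles, zero_comp]), ?_⟩
  rw [← cancel_mono ((sgl A).homologyι 0), HomologicalComplex.homologyι_naturality]
  have h : HomologicalComplex.opcyclesMap (HomologicalComplex.mkHomToSingle (K.pOpcycles 0 ≫ b)
      (fun i _ => by rw [← Category.assoc, K.d_pOpcycles, zero_comp]) : K ⟶ sgl A) 0 = b ≫ e.hom := by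
    rw [← cancel_epi (K.pOpcycles 0), HomologicalComplex.p_opcyclesMap, HomologicalComplex.mkHomToSingle_f]
    simp [e, HomologicalComplex.singleObjOpcyclesSelfIso_hom]
  rw [h, ← Category.assoc, Injective.comp_factorThru]
  simp

theorem eq_zero_of_homologyMap (K : CochainComplex C ℤ) (ψ : K ⟶ sgl A)
    (h : HomologicalComplex.homologyMap ψ 0 = 0) : Nonempty (Homotopy ψ 0) := by
  have h1 : K.iCycles 0 ≫ ψ.f 0 = 0 := by
    haveI : Mono ((sgl A).pOpcycles 0) := by
      have e : (sgl A).pOpcycles 0 = (HomologicalComplex.singleObjXSelf (ComplexShape.up ℤ) 0 A).hom ≫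
          (HomologicalComplex.singleObjOpcyclesSelfIso (ComplexShape.up ℤ) 0 A).hom := by
        rw [HomologicalComplex.singleObjOpcyclesSelfIso_hom, Iso.hom_inv_id_assoc]
      rw [e]; infer_instance
    rw [← cancel_mono ((sgl A).pOpcycles 0), zero_comp, Category.assoc, ← HomologicalComplex.p_opcyclesMap,
      ← HomologicalComplex.homology_π_ι_assoc, ← HomologicalComplex.homologyι_naturality, h, zero_comp, comp_zero]
  obtain ⟨s, hs⟩ : ∃ s : K.X 1 ⟶ (sgl A).X 0, K.d 0 1 ≫ s = ψ.f 0 := by
    haveI : Injective ((sgl A).X 0) :=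
      Injective.of_iso (HomologicalComplex.singleObjXSelf (ComplexShape.up ℤ) 0 A).symm inferInstance
    let T := ShortComplex.mk (K.iCycles 0) (K.d 0 1) (K.iCycles_d 0 1)
    have hT : T.Exact := ShortComplex.exact_of_f_is_kernel _ (K.cyclesIsKernel 0 1 (by simp))
    exact ⟨hT.descToInjective _ h1, hT.comp_descToInjective _ _⟩
  let hom : ∀ i j, (ComplexShape.up ℤ).Rel j i → (K.X i ⟶ (sgl A).X j) := fun i j _ =>
    if hij : i = 1 ∧ j = 0 then eqToHom (by rw [hij.1]) ≫ s ≫ eqToHom (by rw [hij.2]) else 0
  suffices hψ : ψ = Homotopy.nullHomotopicMap' hom from ⟨hψ ▸ Homotopy.nullHomotopy' hom⟩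
  refine HomologicalComplex.Hom.ext (funext fun j => ?_)
  by_cases hj : j = 0
  · subst hj
    rw [Homotopy.nullHomotopicMap'_f (k₂ := (-1 : ℤ)) (k₁ := 0) (k₀ := 1) (by simp) (by simp)]
    have hz : (sgl A).d (-1) 0 = 0 :=
      (HomologicalComplex.isZero_single_obj_X _ _ _ _ (by omega)).eq_of_src _ _
    simp [hom, hs]
  · exact (HomologicalComplex.isZero_single_obj_X _ _ _ _ hj).eq_of_tgt _ _

variable [HasDerivedCategory.{w} C]

theorem bijective_H0 (X : DerivedCategory C) :
    Function.Bijective (fun φ : X ⟶ (DerivedCategory.singleFunctor C 0).obj A =>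
      (DerivedCategory.homologyFunctor C 0).map φ) := by
  haveI := isKInjective_sgl A
  let K := DerivedCategory.Q.objPreimage X
  let e := DerivedCategory.Q.objObjPreimageIso X
  suffices hK : Function.Bijective (fun φ : DerivedCategory.Q.obj K ⟶ DerivedCategory.Q.obj (sgl A) =>
      (DerivedCategory.homologyFunctor C 0).map φ) by
    refine ⟨fun φ φ' hφ => ?_, fun a => ?_⟩
    · refine (cancel_epi e.hom).1 (hK.1 ?_)
      show (DerivedCategory.homologyFunctor C 0).map (e.hom ≫ φ) = (DerivedCategory.homologyFunctor C 0).map (e.hom ≫ φ')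
      dsimp only at hφ
      rw [Functor.map_comp, Functor.map_comp, hφ]
    · obtain ⟨φ, hφ⟩ := hK.2 ((DerivedCategory.homologyFunctor C 0).map e.hom ≫ a)
      refine ⟨e.inv ≫ φ, ?_⟩
      show (DerivedCategory.homologyFunctor C 0).map (e.inv ≫ φ) = a
      rw [Functor.map_comp]
      refine (congrArg (_ ≫ ·) hφ).trans ?_
      rw [← Category.assoc, ← Functor.map_comp, e.inv_hom_id, CategoryTheory.Functor.map_id, Category.id_comp]
  let f := DerivedCategory.homologyFunctorFactors C 0
  let T := (f.app K).homCongr (f.app (sgl A))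
  have key : ∀ ψ : K ⟶ sgl A, (DerivedCategory.homologyFunctor C 0).map (DerivedCategory.Q.map ψ) =
      T.symm (HomologicalComplex.homologyMap ψ 0) := fun ψ => T.injective (by
    rw [Equiv.apply_symm_apply]
    show (f.app K).inv ≫ (DerivedCategory.homologyFunctor C 0).map (DerivedCategory.Q.map ψ) ≫ (f.app (sgl A)).hom = _
    rw [Iso.inv_comp_eq]
    exact f.hom.naturality ψ)
  have hq : Function.Surjective (fun ψ : K ⟶ sgl A => DerivedCategory.Q.map ψ) := fun φ => by
    let q := DerivedCategory.quotientCompQhIso C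
    obtain ⟨g, hg⟩ := (CochainComplex.IsKInjective.Qh_map_bijective ((HomotopyCategory.quotient _ _).obj K) (sgl A)).2
      (q.hom.app K ≫ φ ≫ q.inv.app (sgl A))
    obtain ⟨ψ, rfl⟩ := (HomotopyCategory.quotient _ _).map_surjective g
    refine ⟨ψ, ?_⟩
    rw [← cancel_epi (q.hom.app K)]
    exact (q.hom.naturality ψ).symm.trans ((congrArg (· ≫ q.hom.app (sgl A)) hg).trans (by erw [Category.assoc, Category.assoc, q.inv_hom_id_app, Category.comp_id]))
  refine ⟨fun φ φ' hφ => ?_, fun a => ?_⟩
  · obtain ⟨ψ, rfl⟩ := hq φ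
    obtain ⟨ψ', rfl⟩ := hq φ'
    change (DerivedCategory.homologyFunctor C 0).map (DerivedCategory.Q.map ψ) =
      (DerivedCategory.homologyFunctor C 0).map (DerivedCategory.Q.map ψ') at hφ
    rw [key, key] at hφ
    replace hφ := T.symm.injective hφ
    have h0 : HomologicalComplex.homologyMap (ψ - ψ') 0 = 0 := by
      rw [HomologicalComplex.homologyMap_sub, hφ, sub_self]
    obtain ⟨H⟩ := eq_zero_of_homologyMap A K _ h0
    exact DerivedCategory.Q_map_eq_of_homotopy C (Homotopy.equivSubZero.symm H)
  · obtain ⟨ψ, hψ⟩ := exists_lift A K (T a)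
    exact ⟨DerivedCategory.Q.map ψ, (key ψ).trans ((congrArg T.symm hψ).trans (T.symm_apply_apply a))⟩

omit A [Injective A] [HasDerivedCategory.{w} C]

/-- A morphism is invertible as soon as it induces bijections on maps into injective objects. -/
theorem isIso_of_bijective_injectives [EnoughInjectives C] {X Y : C} (f : X ⟶ Y)
    (h : ∀ (A : C) [Injective A], Function.Bijective (fun g : Y ⟶ A => f ≫ g)) : IsIso f := by
  haveI : Mono f := by
    obtain ⟨g, hg⟩ := (h (Injective.under X)).2 (Injective.ι X)
    exact mono_of_mono_fac hg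
  haveI : Epi f := by
    refine Preadditive.epi_of_cancel_zero f fun {Z} g hg => ?_
    have := (h (Injective.under Z)).1 (a₁ := g ≫ Injective.ι Z) (a₂ := 0)
      (by simp only [comp_zero, reassoc_of% hg, zero_comp])
    exact zero_of_comp_mono _ this
  exact isIso_of_mono_of_epi f

variable [HasDerivedCategory.{w} C]

/-- Precomposition on maps into injective objects in degree zero detects isomorphisms on `H⁰`. -/
theorem isIso_H0_iff [EnoughInjectives C] {X Y : DerivedCategory C} (α : X ⟶ Y) :
    IsIso ((DerivedCategory.homologyFunctor C 0).map α) ↔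
      ∀ (A : C) [Injective A], Function.Bijective
        (fun φ : Y ⟶ (DerivedCategory.singleFunctor C 0).obj A => α ≫ φ) := by
  let H := DerivedCategory.homologyFunctor C 0
  let s := DerivedCategory.singleFunctor C 0
  have hn : ∀ (A : C) [Injective A], Function.Bijective (fun φ : Y ⟶ s.obj A => α ≫ φ) ↔
      Function.Bijective (fun g : H.obj Y ⟶ H.obj (s.obj A) => H.map α ≫ g) := by
    intro A _
    have e : (fun φ : X ⟶ s.obj A => H.map φ) ∘ (fun φ : Y ⟶ s.obj A => α ≫ φ) =
        (fun g : H.obj Y ⟶ H.obj (s.obj A) => H.map α ≫ g) ∘ (fun φ : Y ⟶ s.obj A => H.map φ) :=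
      funext fun φ => H.map_comp α φ
    rw [← (bijective_H0 A X).of_comp_iff' _, e, Function.Bijective.of_comp_iff _ (bijective_H0 A Y)]
  constructor
  · intro hα A _
    exact (hn A).2 (Iso.homFromEquiv (asIso (H.map α)).symm).bijective
  · intro h
    refine isIso_of_bijective_injectives _ fun A _ => ?_
    let i := (DerivedCategory.singleFunctorCompHomologyFunctorIso C 0).app A
    have h' := (hn A).1 (h A)
    have e : (fun g : H.obj Y ⟶ A => H.map α ≫ g) =
        (fun g => g ≫ i.hom) ∘ (fun g : H.obj Y ⟶ H.obj (s.obj A) => H.map α ≫ g) ∘ (fun g => g ≫ i.inv) := by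
      funext g
      simp
    rw [e]
    exact (Iso.homToEquiv i).bijective.comp (h'.comp (Iso.homToEquiv i.symm).bijective)

end Groth.L27.DerBC
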